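import Cfsg.Agent.Suzuki.Generate

/-!
A lower bound for the degree of a non-trivial irreducible complex representation of the ovoid group.
-/

set_option autoImplicit false

open scoped Matrix Pointwise

namespace CfsgLib.Suzuki

variable {F : Type*} [Field F] {θ : F →+* F} [CharP F 2] [Finite F]
  {V : Type*} [AddCommGroup V] [Module ℂ V]

/-- The weight space of a character of the central translations. -/
def zWeight (hT : TitsEndo θ) (ρ : Representation ℂ (grp θ) V) (ψ : AddChar F ℂ) : Submodule ℂ V where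
  carrier := {v | ∀ b, ρ (uElt hT 0 b) v = ψ b • v}
  zero_mem' := fun b => by simp
  add_mem' := fun {v w} hv hw b => by rw [map_add, hv b, hw b, smul_add]
  smul_mem' := fun c v hv b => by rw [map_smul, hv b, smul_comm]

theorem mulShift_injective {ψ : AddChar F ℂ} (hψ : ψ ≠ 1) :
    Function.Injective fun r : F => AddChar.mulShift ψ r := by
  intro r s h
  by_contra hne
  refine AddChar.IsPrimitive.of_ne_one hψ (sub_ne_zero.2 hne) (DFunLike.ext _ _ fun x => ?_)
  have hx : ψ (r * x) = ψ (s * x) := DFunLike.congr_fun h x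
  rw [AddChar.mulShift_apply, AddChar.one_apply, sub_mul, AddChar.map_sub_eq_div, hx, div_self]
  intro h0
  have := AddChar.map_add_eq_mul ψ (s * x) (-(s * x))
  rw [add_neg_cancel, AddChar.map_zero_eq_one, h0, zero_mul] at this
  exact one_ne_zero this

theorem mulShift_surjective {ψ : AddChar F ℂ} (hψ : ψ ≠ 1) :
    Function.Surjective fun r : F => AddChar.mulShift ψ r := by
  cases nonempty_fintype F
  exact ((Fintype.bijective_iff_injective_and_card _).2
    ⟨mulShift_injective hψ, (AddChar.card_eq).symm⟩).2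

/-- The commutator pairing followed by a character, as a character in its first variable. -/
def pairing (ψ : AddChar F ℂ) (θ : F →+* F) (a : F) : AddChar F ℂ where
  toFun c := ψ (θ c * a - θ a * c)
  map_zero_eq_one' := by simp
  map_add_eq_mul' c d := by
    rw [← AddChar.map_add_eq_mul, map_add]
    congr 1
    ring

theorem pairing_fibre (hT : TitsEndo θ) {ψ : AddChar F ℂ} (hψ : ψ ≠ 1) :
    ∃ l : F, ∀ a a', pairing ψ θ a = pairing ψ θ a' → a - a' = 0 ∨ a - a' = l := by
  obtain ⟨l₀, hl₀⟩ := mulShift_surjective hψ (ψ.compAddMonoidHom θ.toAddMonoidHom)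
  have hl : ∀ x, ψ (θ x) = ψ (l₀ * x) := fun x => (DFunLike.congr_fun hl₀ x).symm
  refine ⟨θ l₀, fun a a' h => ?_⟩
  obtain ⟨r, hr⟩ := hT.surj (a - a')
  have key : AddChar.mulShift ψ (θ (θ r)) = AddChar.mulShift ψ (l₀ * r) := by
    refine DFunLike.ext _ _ fun c => ?_
    rw [AddChar.mulShift_apply, AddChar.mulShift_apply]
    have h1 : ψ (θ c * a - θ a * c) = ψ (θ c * a' - θ a' * c) := DFunLike.congr_fun h c
    have h2 : ψ (θ c * (a - a')) = ψ (θ (a - a') * c) := by
      have e : θ c * (a - a') = (θ c * a - θ a * c) + -(θ c * a' - θ a' * c) + θ (a - a') * c := by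
        rw [map_sub]; ring
      rw [e, AddChar.map_add_eq_mul, AddChar.map_add_eq_mul, h1, ← AddChar.map_add_eq_mul,
        add_neg_cancel, AddChar.map_zero_eq_one, one_mul]
    rw [← hr] at h2
    rw [← h2, ← map_mul, hl]
    ring_nf
  have h3 : θ (θ r) = l₀ * r := mulShift_injective hψ key
  rw [hT.sq] at h3
  have h4 : r * (r - l₀) = 0 := by linear_combination h3
  rcases mul_eq_zero.1 h4 with h5 | h5
  · left; rw [← hr, h5, map_zero]
  · right; rw [← hr, sub_eq_zero.1 h5]

theorem uElt_central (hT : TitsEndo θ) (a b c : F) :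
    uElt hT 0 b * uElt hT a c = uElt hT a c * uElt hT 0 b := by
  rw [uElt_mul, uElt_mul, uElt_inj]
  simp [add_comm]

theorem uElt_swap (hT : TitsEndo θ) (a c : F) :
    uElt hT c 0 * uElt hT a 0 = uElt hT 0 (θ c * a - θ a * c) * (uElt hT a 0 * uElt hT c 0) := by
  rw [uElt_mul, uElt_mul, uElt_mul, uElt_inj]
  refine ⟨by ring, ?_⟩
  rw [map_zero]
  ring

variable [FiniteDimensional ℂ V]

theorem finrank_zWeight_ge (hT : TitsEndo θ) {n : ℕ} (hq : Nat.card F = 2 ^ (2 * n + 1))
    (ρ : Representation ℂ (grp θ) V) {ψ : AddChar F ℂ} (hψ : ψ ≠ 1)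
    (hW : zWeight hT ρ ψ ≠ ⊥) : 2 ^ n ≤ Module.finrank ℂ (zWeight hT ρ ψ) := by
  classical
  cases nonempty_fintype F
  set W := zWeight hT ρ ψ with hWdef
  have hinv : ∀ a, ∀ v ∈ W, ρ (uElt hT a 0) v ∈ W := by
    intro a v hv b
    rw [← Module.End.mul_apply, ← map_mul, uElt_central, map_mul, Module.End.mul_apply, hv b,
      map_smul]
  let P : F → Module.End ℂ W := fun a => (ρ (uElt hT a 0)).restrict (hinv a)
  have hP : ∀ a (v : W), (P a v : V) = ρ (uElt hT a 0) v := fun a v => rfl
  have hinj : ∀ a, Function.Injective (P a) := by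
    intro a v w h
    refine Subtype.ext ?_
    have h' : ρ (uElt hT a 0) v = ρ (uElt hT a 0) w := congrArg Subtype.val h
    have := congrArg (ρ (uElt hT a 0)⁻¹) h'
    rwa [Representation.inv_self_apply, Representation.inv_self_apply] at this
  have hrel : ∀ a c, P c * P a = pairing ψ θ a c • (P a * P c) := by
    intro a c
    refine LinearMap.ext fun v => Subtype.ext ?_
    show ρ (uElt hT c 0) (ρ (uElt hT a 0) v) =
      ψ (θ c * a - θ a * c) • ρ (uElt hT a 0) (ρ (uElt hT c 0) v)
    rw [← Module.End.mul_apply, ← map_mul, uElt_swap, map_mul, map_mul, Module.End.mul_apply,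
      Module.End.mul_apply]
    exact hinv a _ (hinv c _ v.2) _
  set S := (Finset.univ : Finset F).image (pairing ψ θ) with hS
  have hScard : 2 ^ (2 * n) ≤ S.card := by
    obtain ⟨l, hl⟩ := pairing_fibre hT hψ
    have h := Finset.card_le_mul_card_image (s := (Finset.univ : Finset F)) (f := pairing ψ θ) 2
      fun e he => by
        obtain ⟨a₀, -, rfl⟩ := Finset.mem_image.1 he
        refine (Finset.card_le_card (t := {a₀, a₀ + l}) fun a ha => ?_).trans Finset.card_le_two
        rcases hl a a₀ (Finset.mem_filter.1 ha).2 with h | h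
        · simp [sub_eq_zero.1 h]
        · simp only [Finset.mem_insert, Finset.mem_singleton]
          exact Or.inr (by linear_combination h)
    rw [Finset.card_univ, ← Nat.card_eq_fintype_card, hq, pow_succ] at h
    rw [hS]
    omega
  choose s hs using fun e : S => Finset.mem_image.1 e.2
  have hindep : LinearIndependent ℂ fun e : S => P (s e) := by
    rw [Fintype.linearIndependent_iff]
    intro x hx
    have h1 : ∀ c, ∑ e : S, (x e * (e : AddChar F ℂ) c) • P (s e) = 0 := by
      intro c
      have h2 : ∑ e : S, (x e * (e : AddChar F ℂ) c) • (P (s e) * P c) = 0 := by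
        rw [← mul_zero (P c), ← hx, Finset.mul_sum]
        refine Finset.sum_congr rfl fun e _ => ?_
        rw [mul_smul_comm, hrel (s e) c, (hs e).2, smul_smul]
      refine LinearMap.ext fun v => ?_
      obtain ⟨w, rfl⟩ := LinearMap.surjective_of_injective (hinj c) v
      have := LinearMap.congr_fun h2 w
      simpa [LinearMap.sum_apply] using this
    have hW' : Nontrivial W := Submodule.nontrivial_iff_ne_bot.2 hW
    obtain ⟨v, hv⟩ := exists_ne (0 : W)
    intro e
    have hne : P (s e) v ≠ 0 := fun h => hv (hinj _ (h.trans (map_zero _).symm))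
    obtain ⟨φ, hφ⟩ : ∃ φ : Module.Dual ℂ W, φ (P (s e) v) ≠ 0 := by
      by_contra hcon
      exact hne ((Module.forall_dual_apply_eq_zero_iff ℂ _).1 fun φ => by_contra fun h => hcon ⟨φ, h⟩)
    have hlin := (AddChar.linearIndependent F ℂ).comp (fun e : S => (e : AddChar F ℂ))
      Subtype.val_injective
    have h3 := Fintype.linearIndependent_iff.1 hlin (fun e => x e * φ (P (s e) v)) ?_ e
    · exact (mul_eq_zero.1 h3).resolve_right hφ
    · funext c
      have := congrArg (fun T : Module.End ℂ W => φ (T v)) (h1 c)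
      simp [LinearMap.sum_apply, map_sum, mul_comm, mul_left_comm] at this
      simpa [mul_comm, mul_left_comm, mul_assoc] using this
  have h4 := hindep.fintype_card_le_finrank
  rw [Fintype.card_coe, Module.finrank_linearMap, ← sq] at h4
  have h5 : (2 ^ n) ^ 2 ≤ Module.finrank ℂ W ^ 2 := by
    rw [← pow_mul, mul_comm]; exact hScard.trans h4
  exact (Nat.pow_le_pow_iff_left two_ne_zero).1 h5

theorem min_degree (hT : TitsEndo θ) {n : ℕ} (hq : Nat.card F = 2 ^ (2 * n + 1))
    (ρ : Representation ℂ (grp θ) V) (hirr : ρ.IsIrreducible) (hk : 2 ≤ Module.finrank ℂ V) :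
    2 ^ n * (2 ^ (2 * n + 1) - 1) ≤ Module.finrank ℂ V := by
  classical
  cases nonempty_fintype F
  haveI := isSimpleGroup hT
  -- the representation is faithful
  have hfaith : ∀ g, ρ g = 1 → g = 1 := by
    intro g hg
    by_contra hne
    have hker : ρ.ker = ⊤ := (MonoidHom.normal_ker ρ).eq_bot_or_eq_top.resolve_left fun h => by
      have : g ∈ ρ.ker := hg
      rw [h] at this
      exact hne (Subgroup.mem_bot.1 this)
    have hall : ∀ h, ρ h = 1 := fun h => MonoidHom.mem_ker.1 (hker ▸ Subgroup.mem_top h)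
    have : Nontrivial V := Module.nontrivial_of_finrank_pos (R := ℂ) (by omega)
    obtain ⟨v, hv⟩ := exists_ne (0 : V)
    let σ : Subrepresentation ρ := ⟨Submodule.span ℂ {v}, fun h w hw => by rw [hall h]; exact hw⟩
    rcases hirr.eq_bot_or_eq_top σ with h | h
    · have h' := congrArg Subrepresentation.toSubmodule h
      exact hv (Submodule.span_singleton_eq_bot.1 h')
    · have h' : Submodule.span ℂ {v} = (⊤ : Submodule ℂ V) := congrArg Subrepresentation.toSubmodule h
      have h1 : Module.finrank ℂ (Submodule.span ℂ ({v} : Set V)) = 1 := finrank_span_singleton hv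
      rw [h', finrank_top] at h1
      omega
  -- a non-trivial weight occurs
  obtain ⟨ψ, hψ, hW⟩ : ∃ ψ : AddChar F ℂ, ψ ≠ 1 ∧ zWeight hT ρ ψ ≠ ⊥ := by
    by_contra hcon
    refine one_ne_zero (α := F) ((uElt_inj hT).1 ((hfaith (uElt hT 0 1) ?_).trans (uElt_zero hT).symm)).2
    refine LinearMap.ext fun v => ?_
    let w : AddChar F ℂ → V := fun φ => ∑ b, φ (-b) • ρ (uElt hT 0 b) v
    have hw : ∀ φ, w φ ∈ zWeight hT ρ φ := by
      intro φ c
      show ρ (uElt hT 0 c) (∑ b, φ (-b) • ρ (uElt hT 0 b) v) = φ c • ∑ b, φ (-b) • ρ (uElt hT 0 b) v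
      rw [map_sum, Finset.smul_sum]
      refine Fintype.sum_equiv (Equiv.addLeft c) _ _ fun b => ?_
      rw [map_smul, ← Module.End.mul_apply, ← map_mul, uElt_mul, map_zero, zero_mul, zero_add,
        add_zero, smul_smul, ← AddChar.map_add_eq_mul, Equiv.coe_addLeft]
      congr 2
      ring
    have hone : ∀ φ, φ ≠ 1 → w φ = 0 := by
      intro φ hφ
      by_contra h0
      exact hcon ⟨φ, hφ, fun h => h0 ((Submodule.eq_bot_iff _).1 h _ (hw φ))⟩
    have htot : ∑ φ, w φ = (Fintype.card F : ℂ) • v := by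
      simp only [w]
      rw [Finset.sum_comm]
      simp only [← Finset.sum_smul, AddChar.sum_apply_eq_ite, neg_eq_zero, ite_smul, zero_smul,
        Finset.sum_ite_eq', Finset.mem_univ, if_true, uElt_zero, map_one, Module.End.one_apply]
    rw [Fintype.sum_eq_single 1 hone] at htot
    have hfix := hw 1 1
    rw [htot, AddChar.one_apply, one_smul, map_smul] at hfix
    exact smul_right_injective V (Nat.cast_ne_zero.2 Fintype.card_ne_zero) hfix
  -- the torus moves it to every non-trivial weight
  have hall : ∀ μ : Fˣ, zWeight hT ρ (AddChar.mulShift ψ (μ : F)) ≠ ⊥ := by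
    intro μ
    obtain ⟨x, hx⟩ := hT.surj ((μ : F)⁻¹)
    obtain ⟨t, ht⟩ := theta_mul_self_surjective hT x
    have ht' : θ t * t = x := ht
    have ht0 : t ≠ 0 := by
      intro h
      rw [h, mul_zero] at ht'
      rw [← ht', map_zero] at hx
      exact inv_ne_zero μ.ne_zero hx.symm
    set T := tElt hT (Units.mk0 t ht0)
    have hμ : t ^ 2 * θ t = (μ : F)⁻¹ := by rw [← hx, ← ht', map_mul, hT.sq]
    obtain ⟨v, hv, hv0⟩ := Submodule.exists_mem_ne_zero_of_ne_bot hW
    intro hbot
    have hmem : ρ T v ∈ zWeight hT ρ (AddChar.mulShift ψ (μ : F)) := by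
      intro b
      have hconj : uElt hT 0 b * T = T * uElt hT 0 ((μ : F) * b) := by
        rw [tElt_mul_uElt, mul_zero]
        congr 2
        rw [Units.val_mk0, hμ, inv_mul_cancel_left₀ μ.ne_zero]
      rw [← Module.End.mul_apply, ← map_mul, hconj, map_mul, Module.End.mul_apply, hv, map_smul,
        AddChar.mulShift_apply]
    rw [hbot, Submodule.mem_bot] at hmem
    refine hv0 ?_
    have := congrArg (ρ T⁻¹) hmem
    rwa [Representation.inv_self_apply, map_zero] at this
  have hdim : ∀ μ : Fˣ, 2 ^ n ≤ Module.finrank ℂ (zWeight hT ρ (AddChar.mulShift ψ (μ : F))) := by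
    intro μ
    refine finrank_zWeight_ge hT hq ρ (fun h => μ.ne_zero ?_) (hall μ)
    exact mulShift_injective hψ (h.trans (AddChar.mulShift_zero ψ).symm)
  set W : Fˣ → Submodule ℂ V := fun μ => zWeight hT ρ (AddChar.mulShift ψ (μ : F)) with hWd
  let L : (∀ μ, W μ) →ₗ[ℂ] V := ∑ μ, (W μ).subtype ∘ₗ LinearMap.proj μ
  have hL : Function.Injective L := by
    rw [injective_iff_map_eq_zero]
    intro u hu
    have hu' : ∑ μ, (u μ : V) = 0 := by simpa [L, LinearMap.sum_apply] using hu
    funext μ
    refine Subtype.ext ((Module.forall_dual_apply_eq_zero_iff ℂ _).1 fun φ => ?_)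
    have hlin := (AddChar.linearIndependent F ℂ).comp
      (fun μ : Fˣ => AddChar.mulShift ψ (μ : F))
      (fun a b h => Units.ext (mulShift_injective hψ h))
    refine Fintype.linearIndependent_iff.1 hlin (fun μ => φ (u μ)) ?_ μ
    funext b
    have h := congrArg (fun z => φ (ρ (uElt hT 0 b) z)) hu'
    simp only [map_sum, map_zero] at h
    rw [Finset.sum_apply, Pi.zero_apply, ← h]
    refine Finset.sum_congr rfl fun ν _ => ?_
    rw [(u ν).2 b, map_smul]
    simp [mul_comm]
  have h5 := LinearMap.finrank_le_finrank_of_injective hL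
  rw [Module.finrank_pi_fintype] at h5
  refine le_trans ?_ ((Finset.sum_le_sum fun μ _ => hdim μ).trans h5)
  rw [Finset.sum_const, Finset.card_univ, smul_eq_mul, ← Nat.card_eq_fintype_card (α := Fˣ),
    Nat.card_units, hq, mul_comm]

end CfsgLib.Suzuki
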